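import Mathlib
import Groth.Agent.Lib.Helper5.Misc.StalkTensor
import Groth.Agent.Lib.Helper5.KFlatSite2.SkyFlat
import Groth.Agent.Lib.Helper5.Stalk.Adj

/-!
# The stalk of a tensor product of presheaves of modules, as a natural linear isomorphism
-/
set_option autoImplicit false
set_option linter.unusedSectionVars false
set_option linter.unusedVariables false
universe u
open CategoryTheory CategoryTheory.Limits MonoidalCategory Opposite TensorProduct TopologicalSpace
open Groth.Agent.Lib.Helper5.TensorLocal Groth.Agent.Lib.Helper5.Misc.StalkTensor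
  Groth.Agent.Lib.Helper5.Sky Groth.Agent.Lib.Helper5.StalkAdj

namespace Groth.Agent.Lib.Helper5.StalkTenP

variable {X : TopCat.{u}} {R : X.Presheaf CommRingCat.{u}} (M N : PMod R) (x : X)

lemma thetaU_smul (U : Opens X) (hU : x ∈ U) (r : R.obj (op U))
    (s : M.obj (op U) ⊗[R.obj (op U)] N.obj (op U)) :
    thetaU M N x U hU (r • s) = (gr (R := R) x U hU r : R.stalk x) • thetaU M N x U hU s := by
  induction s using TensorProduct.induction_on with
  | zero => simp
  | tmul m n =>
    rw [TensorProduct.smul_tmul', thetaU_tmul, thetaU_tmul, gm_smul, TensorProduct.smul_tmul']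
    rfl
  | add a b ha hb => rw [smul_add, map_add, map_add, smul_add, ha, hb]

lemma theta_smul (r : R.stalk x) (t : St (M ⊗ N) x) :
    theta M N x (r • t) = r • theta M N x t := by
  obtain ⟨W, hW, r', s, _, rfl, rfl, _⟩ := common_rep (M ⊗ N) (M ⊗ N) x r t t
  have h1 : (gr (R := R) x W hW r' : R.stalk x) • gm (M ⊗ N) x W hW s =
      gm (M ⊗ N) x W hW (r' • s) := (gm_smul (M ⊗ N) x W hW r' s).symm
  rw [h1]
  erw [theta_gm M N x W hW (r' • s), theta_gm M N x W hW s]
  exact thetaU_smul M N x W hW r' s

/-- the stalk of the tensor product, as a linear equivalence -/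
noncomputable def thetaEquiv : St (M ⊗ N) x ≃ₗ[R.stalk x] St M x ⊗[R.stalk x] St N x where
  toFun := theta M N x
  map_add' := map_add _
  map_smul' := theta_smul M N x
  invFun := psi M N x
  left_inv := psi_theta M N x
  right_inv := theta_psi M N x

/-- the stalk of the tensor product of presheaves of modules -/
noncomputable def stalkTensorIso :
    (stalkFun R x).obj (M ⊗ N) ≅ (stalkFun R x).obj M ⊗ (stalkFun R x).obj N :=
  (thetaEquiv M N x).toModuleIso

lemma stalkTensorIso_hom_apply (t : St (M ⊗ N) x) :
    (stalkTensorIso M N x).hom t = theta M N x t := rfl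

variable {M N}

lemma whiskerRight_app_eq {M' : PMod R} (f : M ⟶ M') (U : Opens X)
    (t : M.obj (op U) ⊗[R.obj (op U)] N.obj (op U)) :
    (f ▷ N).app (op U) t = LinearMap.rTensor (N.obj (op U)) (f.app (op U)).hom t := rfl

lemma thetaU_rTensor {M' : PMod R} (f : M ⟶ M') (U : Opens X) (hU : x ∈ U)
    (s : M.obj (op U) ⊗[R.obj (op U)] N.obj (op U)) :
    thetaU M' N x U hU (LinearMap.rTensor (N.obj (op U)) (f.app (op U)).hom s) =
      LinearMap.rTensor (St N x) (stalkMapL x f) (thetaU M N x U hU s) := by
  induction s using TensorProduct.induction_on with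
  | zero => simp
  | tmul m n =>
    show gm M' x U hU (f.app (op U) m) ⊗ₜ[R.stalk x] gm N x U hU n =
      stalkMap x f (gm M x U hU m) ⊗ₜ[R.stalk x] gm N x U hU n
    rw [stalkMap_gm]
  | add a b ha hb => rw [map_add, map_add, map_add, map_add, ha, hb]

lemma theta_natural_left {M' : PMod R} (f : M ⟶ M') (t : St (M ⊗ N) x) :
    theta M' N x (stalkMap x (f ▷ N) t) =
      LinearMap.rTensor (St N x) (stalkMapL x f) (theta M N x t) := by
  obtain ⟨U, hU, s, rfl⟩ := gm_exists (M ⊗ N) x t
  rw [stalkMap_gm]
  refine (theta_gm M' N x U hU _).trans ?_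
  refine Eq.trans ?_ (congrArg (LinearMap.rTensor (St N x) (stalkMapL x f))
    (theta_gm M N x U hU s)).symm
  exact thetaU_rTensor x f U hU s

/-- naturality in the first variable -/
lemma stalkTensorIso_naturality_left {M' : PMod R} (f : M ⟶ M') :
    (stalkFun R x).map (f ▷ N) ≫ (stalkTensorIso M' N x).hom =
      (stalkTensorIso M N x).hom ≫ ((stalkFun R x).map f ▷ (stalkFun R x).obj N) := by
  ext t
  exact theta_natural_left x f t

/-- naturality in the second variable -/
lemma stalkTensorIso_naturality_right {N' : PMod R} (g : N ⟶ N') :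
    (stalkFun R x).map (M ◁ g) ≫ (stalkTensorIso M N' x).hom =
      (stalkTensorIso M N x).hom ≫ ((stalkFun R x).obj M ◁ (stalkFun R x).map g) := by
  ext t
  exact theta_natural M x g t

end Groth.Agent.Lib.Helper5.StalkTenP
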