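import Mathlib
import Groth.Prelude.Def_DCoh4
import Groth.Prelude.Def_DerSch
import Groth.Agent.Lib.Helper5.StalkTen.StalkTenP
import Groth.Agent.Lib.Helper5.Stalk.Exact

/-!
# The stalk of a tensor product of `𝒪_X`-modules
-/
set_option autoImplicit false
set_option linter.unusedSectionVars false
set_option linter.unusedVariables false
universe u
open CategoryTheory CategoryTheory.Limits MonoidalCategory Opposite TensorProduct TopologicalSpace
  AlgebraicGeometry
open Groth.Agent.Lib.Helper5.Misc.StalkTensor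
  Groth.Agent.Lib.Helper5.Sky Groth.Agent.Lib.Helper5.StalkAdj Groth.Agent.Lib.Helper5.StalkTenP

namespace Groth.Agent.Lib.Helper5.StalkTenS

lemma comm_sq_comp {C : Type*} [Category C] {A B B' D D' E : C} (a : A ⟶ B') (i' : B' ⟶ D')
    (t' : D' ⟶ E) (i : A ⟶ B) (s : B ⟶ D') (t : B ⟶ D) (w : D ⟶ E) (h1 : a ≫ i' = i ≫ s)
    (h2 : s ≫ t' = t ≫ w) : a ≫ (i' ≫ t') = (i ≫ t) ≫ w := by
  rw [← Category.assoc, h1, Category.assoc, h2, Category.assoc]

variable (X : Scheme.{u}) (x : X)

/-- the underlying presheaf of modules of a skyscraper sheaf -/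
noncomputable def skyForgetIso : skyS X x ⋙ fgtS X ≅ skyFun X.presheaf x :=
  NatIso.ofComponents (fun N => Iso.refl _) (fun f => by
    simp only [Iso.refl_hom, Category.comp_id, Category.id_comp]
    rfl)

/-- the adjunction between the stalk of the sheafification and the skyscraper presheaf -/
noncomputable def adjShf : CohB1.sheafifyMod X ⋙ stalkSh X x ⊣ skyFun X.presheaf x :=
  ((PresheafOfModules.sheafificationAdjunction (𝟙 X.ringCatSheaf.obj)).comp
    (adjS X x)).ofNatIsoRight (skyForgetIso X x)

/-- **the stalk of the sheafification is the stalk of the presheaf** -/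
noncomputable def stalkShfIso : CohB1.sheafifyMod X ⋙ stalkSh X x ≅ stalkFun X.presheaf x :=
  (adjShf X x).leftAdjointUniq (adj X.presheaf x)

/-- the presheaf tensor product of two modules -/
noncomputable abbrev tensorP (M N : X.Modules) : PMod X.presheaf :=
  (fgtS X).obj M ⊗ (fgtS X).obj N

/-- **the stalk of the tensor product of two modules** -/
noncomputable def stalkTensorIsoS (M N : X.Modules) :
    (stalkSh X x).obj ((DCoh.tensorBi.obj M).obj N) ≅
      (stalkSh X x).obj M ⊗ (stalkSh X x).obj N :=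
  (stalkShfIso X x).app (tensorP X M N) ≪≫
    stalkTensorIso ((fgtS X).obj M) ((fgtS X).obj N) x

variable {X}

lemma stalkTensorIsoS_naturality_left {M M' : X.Modules} (f : M ⟶ M') (N : X.Modules) :
    (stalkSh X x).map ((DCoh.tensorBi.map f).app N) ≫ (stalkTensorIsoS X x M' N).hom =
      (stalkTensorIsoS X x M N).hom ≫ ((stalkSh X x).map f ▷ (stalkSh X x).obj N) := by
  have h1 : (stalkSh X x).map ((DCoh.tensorBi.map f).app N) ≫
      (stalkShfIso X x).hom.app (tensorP X M' N) =
      (stalkShfIso X x).hom.app (tensorP X M N) ≫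
        (stalkFun X.presheaf x).map ((fgtS X).map f ▷ (fgtS X).obj N) :=
    (stalkShfIso X x).hom.naturality ((fgtS X).map f ▷ (fgtS X).obj N)
  have h2 := stalkTensorIso_naturality_left (N := (fgtS X).obj N) x ((fgtS X).map f)
  dsimp only [stalkTensorIsoS, Iso.trans_hom, Iso.app_hom]
  exact comm_sq_comp _ _ _ _ _ _ _ h1 h2

lemma stalkTensorIsoS_naturality_right (M : X.Modules) {N N' : X.Modules} (g : N ⟶ N') :
    (stalkSh X x).map ((DCoh.tensorBi.obj M).map g) ≫ (stalkTensorIsoS X x M N').hom =
      (stalkTensorIsoS X x M N).hom ≫ ((stalkSh X x).obj M ◁ (stalkSh X x).map g) := by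
  have h1 : (stalkSh X x).map ((DCoh.tensorBi.obj M).map g) ≫
      (stalkShfIso X x).hom.app (tensorP X M N') =
      (stalkShfIso X x).hom.app (tensorP X M N) ≫
        (stalkFun X.presheaf x).map ((fgtS X).obj M ◁ (fgtS X).map g) :=
    (stalkShfIso X x).hom.naturality ((fgtS X).obj M ◁ (fgtS X).map g)
  have h2 := stalkTensorIso_naturality_right (M := (fgtS X).obj M) x ((fgtS X).map g)
  dsimp only [stalkTensorIsoS, Iso.trans_hom, Iso.app_hom]
  exact comm_sq_comp _ _ _ _ _ _ _ h1 h2

end Groth.Agent.Lib.Helper5.StalkTenS
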