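import Mathlib

/-!
# Functors commuting with bifunctors commute with total complexes (helper5)

Given bifunctors `TA : A₁ ⥤ A₂ ⥤ A`, `TB : B₁ ⥤ B₂ ⥤ B`, additive functors `G₁ : A₁ ⥤ B₁`,
`G₂ : A₂ ⥤ B₂`, `G : A ⥤ B` and a natural isomorphism `G (TA P N) ≅ TB (G₁ P) (G₂ N)`, the
functor `G` sends the total complex of `TA F K` to the total complex of `TB (G₁ F) (G₂ K)`.
-/
set_option autoImplicit false
set_option linter.unusedSectionVars false
set_option linter.unusedVariables false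
set_option linter.style.haveILetI false
universe v₁ u₁ v₂ u₂ v₃ u₃ v₄ u₄ v₅ u₅ v₆ u₆
open CategoryTheory CategoryTheory.Limits HomologicalComplex

namespace Groth.Agent.Lib.Helper5.TotFun

variable {A₁ : Type u₁} [Category.{v₁} A₁] [Preadditive A₁]
  {A₂ : Type u₂} [Category.{v₂} A₂] [Preadditive A₂]
  {A : Type u₃} [Category.{v₃} A] [Preadditive A]
  {B₁ : Type u₄} [Category.{v₄} B₁] [Preadditive B₁]
  {B₂ : Type u₅} [Category.{v₅} B₂] [Preadditive B₂]
  {B : Type u₆} [Category.{v₆} B] [Preadditive B]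
  (TA : A₁ ⥤ A₂ ⥤ A) [TA.PreservesZeroMorphisms] [∀ X, (TA.obj X).PreservesZeroMorphisms]
  (TB : B₁ ⥤ B₂ ⥤ B) [TB.PreservesZeroMorphisms] [∀ X, (TB.obj X).PreservesZeroMorphisms]
  (G₁ : A₁ ⥤ B₁) [G₁.Additive] (G₂ : A₂ ⥤ B₂) [G₂.Additive] (G : A ⥤ B) [G.Additive]
  [∀ n : ℤ, PreservesColimitsOfShape (Discrete ((ComplexShape.π (ComplexShape.up ℤ)
    (ComplexShape.up ℤ) (ComplexShape.up ℤ)) ⁻¹' {n})) G]
  (φ : ∀ (P : A₁) (N : A₂), G.obj ((TA.obj P).obj N) ≅ (TB.obj (G₁.obj P)).obj (G₂.obj N))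
  (hφ₁ : ∀ {P P' : A₁} (f : P ⟶ P') (N : A₂),
    G.map ((TA.map f).app N) ≫ (φ P' N).hom = (φ P N).hom ≫ (TB.map (G₁.map f)).app (G₂.obj N))
  (hφ₂ : ∀ (P : A₁) {N N' : A₂} (g : N ⟶ N'),
    G.map ((TA.obj P).map g) ≫ (φ P N').hom = (φ P N).hom ≫ (TB.obj (G₁.obj P)).map (G₂.map g))
  (F : CochainComplex A₁ ℤ) (K : CochainComplex A₂ ℤ)
  [HasMapBifunctor F K TA (ComplexShape.up ℤ)]
  [HasMapBifunctor ((G₁.mapHomologicalComplex _).obj F) ((G₂.mapHomologicalComplex _).obj K) TB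
    (ComplexShape.up ℤ)]

/-- the complex `Tot (TA F K)` -/
noncomputable abbrev totA : CochainComplex A ℤ :=
  mapBifunctor F K TA (ComplexShape.up ℤ)

/-- the complex `Tot (TB (G₁ F) (G₂ K))` -/
noncomputable abbrev totB : CochainComplex B ℤ :=
  mapBifunctor ((G₁.mapHomologicalComplex _).obj F) ((G₂.mapHomologicalComplex _).obj K) TB
    (ComplexShape.up ℤ)

/-- the degreewise isomorphism -/
noncomputable def eIso (n : ℤ) : G.obj ((totA TA F K).X n) ≅ (totB TB G₁ G₂ F K).X n :=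
  IsColimit.coconePointsIsoOfNatIso
    (isColimitOfPreserves G
      ((((TA.mapBifunctorHomologicalComplex _ _).obj F).obj K).toGradedObject.isColimitCofanMapObj
        _ n))
    ((((TB.mapBifunctorHomologicalComplex _ _).obj ((G₁.mapHomologicalComplex _).obj F)).obj
        ((G₂.mapHomologicalComplex _).obj K)).toGradedObject.isColimitCofanMapObj _ n)
    (Discrete.natIso (fun i => φ (F.X i.as.1.1) (K.X i.as.1.2)))

/-- summand inclusions with normalised types -/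
noncomputable def ιA (p q n : ℤ) (h : p + q = n) :
    (TA.obj (F.X p)).obj (K.X q) ⟶ (totA TA F K).X n :=
  ιMapBifunctor F K TA (ComplexShape.up ℤ) p q n h

noncomputable def ιB (p q n : ℤ) (h : p + q = n) :
    (TB.obj (G₁.obj (F.X p))).obj (G₂.obj (K.X q)) ⟶ (totB TB G₁ G₂ F K).X n :=
  ιMapBifunctor ((G₁.mapHomologicalComplex _).obj F) ((G₂.mapHomologicalComplex _).obj K) TB
    (ComplexShape.up ℤ) p q n h

lemma ι_eIso (p q n : ℤ) (h : p + q = n) :
    G.map (ιA TA F K p q n h) ≫ (eIso TA TB G₁ G₂ G φ F K n).hom =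
      (φ (F.X p) (K.X q)).hom ≫ ιB TB G₁ G₂ F K p q n h := by
  unfold eIso
  exact IsColimit.comp_coconePointsIsoOfNatIso_hom
    (isColimitOfPreserves G
      ((((TA.mapBifunctorHomologicalComplex _ _).obj F).obj K).toGradedObject.isColimitCofanMapObj
        _ n))
    ((((TB.mapBifunctorHomologicalComplex _ _).obj ((G₁.mapHomologicalComplex _).obj F)).obj
        ((G₂.mapHomologicalComplex _).obj K)).toGradedObject.isColimitCofanMapObj _ n)
    (Discrete.natIso (fun i => φ (F.X i.as.1.1) (K.X i.as.1.2)))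
    (⟨⟨(p, q), h⟩⟩ : Discrete ((ComplexShape.π (ComplexShape.up ℤ)
      (ComplexShape.up ℤ) (ComplexShape.up ℤ)) ⁻¹' {n}))

lemma hom_ext_G {Y : B} {n : ℤ} {f g : G.obj ((totA TA F K).X n) ⟶ Y}
    (h : ∀ (p q : ℤ) (hpq : p + q = n),
      G.map (ιA TA F K p q n hpq) ≫ f = G.map (ιA TA F K p q n hpq) ≫ g) :
    f = g :=
  (isColimitOfPreserves G
      ((((TA.mapBifunctorHomologicalComplex _ _).obj F).obj K).toGradedObject.isColimitCofanMapObj
        _ n)).hom_ext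
    (fun ⟨⟨(p, q), hpq⟩⟩ => h p q hpq)

lemma ι_d_raw {C₁ : Type*} [Category C₁] [Preadditive C₁] {C₂ : Type*} [Category C₂]
    [Preadditive C₂] {C : Type*} [Category C] [Preadditive C]
    (T : C₁ ⥤ C₂ ⥤ C) [T.PreservesZeroMorphisms] [∀ X, (T.obj X).PreservesZeroMorphisms]
    (K₁ : CochainComplex C₁ ℤ) (K₂ : CochainComplex C₂ ℤ)
    [HasMapBifunctor K₁ K₂ T (ComplexShape.up ℤ)]
    (p q n : ℤ) (hpq : p + q = n) (h1 : p + 1 + q = n + 1) (h2 : p + (q + 1) = n + 1) :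
    ιMapBifunctor K₁ K₂ T (ComplexShape.up ℤ) p q n hpq ≫
        (mapBifunctor K₁ K₂ T (ComplexShape.up ℤ)).d n (n + 1) =
      ComplexShape.ε₁ (ComplexShape.up ℤ) (ComplexShape.up ℤ) (ComplexShape.up ℤ) (p, q) •
        ((T.map (K₁.d p (p + 1))).app (K₂.X q) ≫
          ιMapBifunctor K₁ K₂ T (ComplexShape.up ℤ) (p + 1) q (n + 1) h1) +
      ComplexShape.ε₂ (ComplexShape.up ℤ) (ComplexShape.up ℤ) (ComplexShape.up ℤ) (p, q) •
        ((T.obj (K₁.X p)).map (K₂.d q (q + 1)) ≫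
          ιMapBifunctor K₁ K₂ T (ComplexShape.up ℤ) p (q + 1) (n + 1) h2) := by
  rw [mapBifunctor.d_eq, Preadditive.comp_add, mapBifunctor.ι_D₁, mapBifunctor.ι_D₂,
    mapBifunctor.d₁_eq K₁ K₂ T (ComplexShape.up ℤ) (i₁ := p) (i₁' := p + 1) (by simp) q (n + 1) h1,
    mapBifunctor.d₂_eq K₁ K₂ T (ComplexShape.up ℤ) p (i₂ := q) (i₂' := q + 1) (by simp) (n + 1) h2]

lemma ιB_d (p q n : ℤ) (hpq : p + q = n) (h1 : p + 1 + q = n + 1) (h2 : p + (q + 1) = n + 1) :
    ιB TB G₁ G₂ F K p q n hpq ≫ (totB TB G₁ G₂ F K).d n (n + 1) =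
      ComplexShape.ε₁ (ComplexShape.up ℤ) (ComplexShape.up ℤ) (ComplexShape.up ℤ) (p, q) •
        ((TB.map (G₁.map (F.d p (p + 1)))).app (G₂.obj (K.X q)) ≫
          ιB TB G₁ G₂ F K (p + 1) q (n + 1) h1) +
      ComplexShape.ε₂ (ComplexShape.up ℤ) (ComplexShape.up ℤ) (ComplexShape.up ℤ) (p, q) •
        ((TB.obj (G₁.obj (F.X p))).map (G₂.map (K.d q (q + 1))) ≫
          ιB TB G₁ G₂ F K p (q + 1) (n + 1) h2) :=
  ι_d_raw TB ((G₁.mapHomologicalComplex _).obj F) ((G₂.mapHomologicalComplex _).obj K)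
    p q n hpq h1 h2

lemma ιA_d (p q n : ℤ) (hpq : p + q = n) (h1 : p + 1 + q = n + 1) (h2 : p + (q + 1) = n + 1) :
    ιA TA F K p q n hpq ≫ (totA TA F K).d n (n + 1) =
      ComplexShape.ε₁ (ComplexShape.up ℤ) (ComplexShape.up ℤ) (ComplexShape.up ℤ) (p, q) •
        ((TA.map (F.d p (p + 1))).app (K.X q) ≫ ιA TA F K (p + 1) q (n + 1) h1) +
      ComplexShape.ε₂ (ComplexShape.up ℤ) (ComplexShape.up ℤ) (ComplexShape.up ℤ) (p, q) •
        ((TA.obj (F.X p)).map (K.d q (q + 1)) ≫ ιA TA F K p (q + 1) (n + 1) h2) :=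
  ι_d_raw TA F K p q n hpq h1 h2

include hφ₁ hφ₂ in
lemma eIso_comm (n : ℤ) :
    (eIso TA TB G₁ G₂ G φ F K n).hom ≫ (totB TB G₁ G₂ F K).d n (n + 1) =
      G.map ((totA TA F K).d n (n + 1)) ≫ (eIso TA TB G₁ G₂ G φ F K (n + 1)).hom := by
  apply hom_ext_G TA G F K
  intro p q hpq
  have h1 : p + 1 + q = n + 1 := by omega
  have h2 : p + (q + 1) = n + 1 := by omega
  rw [← Category.assoc, ι_eIso, Category.assoc, ιB_d TB G₁ G₂ F K p q n hpq h1 h2,
    ← Category.assoc, ← G.map_comp, ιA_d TA F K p q n hpq h1 h2,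
    G.map_add, Functor.map_units_smul, Functor.map_units_smul, G.map_comp, G.map_comp,
    Preadditive.add_comp, Preadditive.comp_add, Linear.units_smul_comp, Linear.units_smul_comp,
    Linear.comp_units_smul, Linear.comp_units_smul, Category.assoc, Category.assoc,
    ι_eIso, ι_eIso, ← Category.assoc (G.map _), hφ₁, ← Category.assoc (G.map _), hφ₂,
    Category.assoc, Category.assoc]

include hφ₁ hφ₂ in
/-- the isomorphism of total complexes `G (Tot (TA F K)) ≅ Tot (TB (G₁ F) (G₂ K))` -/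
noncomputable def totIso :
    (G.mapHomologicalComplex (ComplexShape.up ℤ)).obj (totA TA F K) ≅ totB TB G₁ G₂ F K :=
  HomologicalComplex.Hom.isoOfComponents (fun n => eIso TA TB G₁ G₂ G φ F K n) (by
    intro i j hij
    have hj : j = i + 1 := by
      simp only [ComplexShape.up_Rel] at hij
      omega
    subst hj
    exact eIso_comm TA TB G₁ G₂ G φ hφ₁ hφ₂ F K i)

end Groth.Agent.Lib.Helper5.TotFun
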