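import Mathlib
import Groth.Prelude.Def_KFlatSite
import Groth.Agent.Lib.Helper5.Misc.ProjTot

/-!
# Base change of K-flat complexes of modules
-/
set_option autoImplicit false
set_option linter.unusedSectionVars false
set_option linter.unusedVariables false
universe u
open CategoryTheory CategoryTheory.Limits MonoidalCategory TensorProduct HomologicalComplex ChangeOfRings

namespace Groth.Agent.Lib.Helper5.BCKFlat

variable {R S : Type u} [CommRing R] [CommRing S] (g : R →+* S)

/-- the projection formula `P ⊗_S (S ⊗_R N) ≃ P ⊗_R N` -/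
noncomputable def projEquiv (P : ModuleCat.{u} S) (N : ModuleCat.{u} R) :
    ((ModuleCat.restrictScalars g).obj (P ⊗ (ModuleCat.extendScalars g).obj N)) ≃ₗ[R]
      ((ModuleCat.restrictScalars g).obj P ⊗ N : ModuleCat R) := by
  letI := g.toAlgebra
  letI : Module R P := Module.compHom P g
  haveI : IsScalarTower R S P := ⟨fun r s p => by
    show (g r * s) • p = g r • (s • p)
    rw [mul_smul]⟩
  exact (TensorProduct.AlgebraTensorModule.cancelBaseChange R S S P N).restrictScalars R

/-- an element of `P` viewed in the restriction of scalars -/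
abbrev rp {P : ModuleCat.{u} S} (p : P) : (ModuleCat.restrictScalars g).obj P := p

lemma projEquiv_tmul (P : ModuleCat.{u} S) (N : ModuleCat.{u} R) (p : P) (s : S) (n : N) :
    projEquiv g P N (p ⊗ₜ[S] (s ⊗ₜ[R,g] n)) = rp g (s • p) ⊗ₜ[R] n := rfl

/-- the projection formula as an isomorphism of modules -/
noncomputable def projIso (P : ModuleCat.{u} S) (N : ModuleCat.{u} R) :
    (ModuleCat.restrictScalars g).obj (P ⊗ (ModuleCat.extendScalars g).obj N) ≅
      (ModuleCat.restrictScalars g).obj P ⊗ N :=
  (projEquiv g P N).toModuleIso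

/-- additive maps out of `P ⊗_S (S ⊗_R N)` are determined by pure tensors -/
lemma addHom_ext_tmul {P : ModuleCat.{u} S} {N : ModuleCat.{u} R} {Q : Type u} [AddCommGroup Q]
    (a b : (↑P ⊗[S] ↑((ModuleCat.extendScalars g).obj N)) →+ Q)
    (h : ∀ (p : P) (s : S) (n : N), a (p ⊗ₜ[S] (s ⊗ₜ[R,g] n)) = b (p ⊗ₜ[S] (s ⊗ₜ[R,g] n))) :
    a = b := by
  ext x
  induction x using TensorProduct.induction_on with
  | zero => rw [map_zero, map_zero]
  | tmul p t =>
    have key : ∀ t : ↑((ModuleCat.restrictScalars g).obj (ModuleCat.of S S)) ⊗[R] ↑N,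
        a (p ⊗ₜ[S] (show ↑((ModuleCat.extendScalars g).obj N) from t)) =
          b (p ⊗ₜ[S] (show ↑((ModuleCat.extendScalars g).obj N) from t)) := by
      intro t
      induction t using TensorProduct.induction_on with
      | zero =>
        have : (p ⊗ₜ[S] (0 : ↑((ModuleCat.extendScalars g).obj N))) = 0 :=
          TensorProduct.tmul_zero _ p
        exact (congrArg a this).trans ((map_zero a).trans ((map_zero b).symm.trans
          (congrArg b this).symm))
      | tmul s n => exact h p s n
      | add u v hu hv =>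
        have : (p ⊗ₜ[S] (show ↑((ModuleCat.extendScalars g).obj N) from u + v)) =
            p ⊗ₜ[S] (show ↑((ModuleCat.extendScalars g).obj N) from u) +
              p ⊗ₜ[S] (show ↑((ModuleCat.extendScalars g).obj N) from v) :=
          TensorProduct.tmul_add p _ _
        exact (congrArg a this).trans ((map_add a _ _).trans
          ((congrArg₂ (· + ·) hu hv).trans ((map_add b _ _).symm.trans (congrArg b this).symm)))
    exact key t
  | add u v hu hv => rw [map_add, map_add, hu, hv]

lemma ext_tmul {P : ModuleCat.{u} S} {N : ModuleCat.{u} R} {Q : ModuleCat.{u} R}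
    {α β : (ModuleCat.restrictScalars g).obj (P ⊗ (ModuleCat.extendScalars g).obj N) ⟶ Q}
    (h : ∀ (p : P) (s : S) (n : N),
      α.hom (p ⊗ₜ[S] (s ⊗ₜ[R,g] n)) = β.hom (p ⊗ₜ[S] (s ⊗ₜ[R,g] n))) :
    α = β := by
  have := addHom_ext_tmul g (P := P) (N := N) α.hom.toAddMonoidHom β.hom.toAddMonoidHom h
  ext x
  exact DFunLike.congr_fun this x

lemma projIso_naturality_left {P P' : ModuleCat.{u} S} (f : P ⟶ P') (N : ModuleCat.{u} R) :
    (ModuleCat.restrictScalars g).map (f ▷ (ModuleCat.extendScalars g).obj N) ≫
        (projIso g P' N).hom =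
      (projIso g P N).hom ≫ ((ModuleCat.restrictScalars g).map f ▷ N) := by
  apply ext_tmul
  intro p s n
  show projEquiv g P' N (f.hom p ⊗ₜ[S] (s ⊗ₜ[R,g] n)) = rp g (f.hom (s • p)) ⊗ₜ[R] n
  rw [projEquiv_tmul, map_smul]

lemma projIso_naturality_right (P : ModuleCat.{u} S) {N N' : ModuleCat.{u} R} (h : N ⟶ N') :
    (ModuleCat.restrictScalars g).map (P ◁ (ModuleCat.extendScalars g).map h) ≫
        (projIso g P N').hom =
      (projIso g P N).hom ≫ ((ModuleCat.restrictScalars g).obj P ◁ h) := by
  apply ext_tmul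
  intro p s n
  rfl

instance : (ModuleCat.extendScalars.{u, u, u} g).IsLeftAdjoint :=
  (ModuleCat.extendRestrictScalarsAdj g).isLeftAdjoint

instance : (ModuleCat.extendScalars.{u, u, u} g).Additive :=
  (ModuleCat.extendRestrictScalarsAdj g).left_adjoint_additive

instance : (ModuleCat.restrictScalars.{u} g).IsRightAdjoint :=
  (ModuleCat.extendRestrictScalarsAdj g).isRightAdjoint

instance : (ModuleCat.restrictScalars.{u} g).IsLeftAdjoint :=
  (ModuleCat.restrictCoextendScalarsAdj g).isLeftAdjoint

/-- **the base change of a K-flat complex of modules is K-flat** -/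
theorem isKFlat_extendScalars (K : DRing.Cx R) (hK : DRing.IsKFlat R K) :
    DRing.IsKFlat S
      (((ModuleCat.extendScalars.{u, u, u} g).mapHomologicalComplex (ComplexShape.up ℤ)).obj K) := by
  intro M hM i
  have hM' : ∀ j : ℤ, IsZero
      ((((ModuleCat.restrictScalars.{u} g).mapHomologicalComplex
        (ComplexShape.up ℤ)).obj M).homology j) := fun j => by
    rw [← exactAt_iff_isZero_homology]
    exact ((exactAt_iff_isZero_homology M j).mpr (hM j)).map (ModuleCat.restrictScalars g)
  have h1 := hK _ hM' i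
  have e := Groth.Agent.Lib.Helper5.Misc.ProjTot.totIso (curriedTensor (ModuleCat.{u} S))
    (curriedTensor (ModuleCat.{u} R)) (ModuleCat.restrictScalars.{u} g)
    (ModuleCat.extendScalars.{u, u, u} g)
    (fun P N => projIso g P N) (fun f N => projIso_naturality_left g f N)
    (fun P _ _ h => projIso_naturality_right g P h) M K
  have h2 : IsZero ((((ModuleCat.restrictScalars.{u} g).mapHomologicalComplex
      (ComplexShape.up ℤ)).obj (M ⊗ ((ModuleCat.extendScalars.{u, u, u} g).mapHomologicalComplex
        (ComplexShape.up ℤ)).obj K)).homology i) :=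
    h1.of_iso ((HomologicalComplex.homologyFunctor _ _ i).mapIso e)
  rw [← exactAt_iff_isZero_homology] at h2 ⊢
  rw [exactAt_iff' _ (i - 1) i (i + 1) (by simp) (by simp)] at h2 ⊢
  exact (ShortComplex.exact_map_iff_of_faithful _ (ModuleCat.restrictScalars.{u} g)).1 h2

end Groth.Agent.Lib.Helper5.BCKFlat
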