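import Mathlib
import Groth.Agent.Lib.Helper5.Stalk.Exact

/-!
# The skyscraper functor to `𝒪_X`-modules is exact
-/
set_option autoImplicit false
set_option linter.unusedSectionVars false
set_option linter.unusedVariables false
set_option linter.style.haveILetI false
universe u
open CategoryTheory CategoryTheory.Limits Opposite TopologicalSpace AlgebraicGeometry
open Groth.Agent.Lib.Helper5.Misc.StalkTensor Groth.Agent.Lib.Helper5.Sky

namespace Groth.Agent.Lib.Helper5.StalkAdj

variable (X : Scheme.{u}) (x : X)

instance : (skyS X x).IsRightAdjoint := (adjS X x).isRightAdjoint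

instance : (skyS X x).Additive := (adjS X x).right_adjoint_additive

lemma skyMap_app_surjective {N N' : Type u} [AddCommGroup N] [Module (X.presheaf.stalk x) N]
    [AddCommGroup N'] [Module (X.presheaf.stalk x) N'] (f : N →ₗ[X.presheaf.stalk x] N')
    (hf : Function.Surjective f) (U : (Opens X)ᵒᵖ) :
    Function.Surjective ((skyMap X.presheaf x f).app U) := by
  intro ψ
  refine ⟨(fun h => (hf ((ψ : SkyT x N' U.unop) h)).choose : SkyT x N U.unop), ?_⟩
  funext h
  exact (hf ((ψ : SkyT x N' U.unop) h)).choose_spec

lemma epi_skyS_map {N N' : ModuleCat.{u} (X.presheaf.stalk x)} (f : N ⟶ N') [Epi f] :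
    Epi ((skyS X x).map f) := by
  have hf : Function.Surjective f.hom := (ModuleCat.epi_iff_surjective f).1 inferInstance
  haveI : (SheafOfModules.toSheaf X.ringCatSheaf).Faithful :=
    Functor.Faithful.of_comp_iso (SheafOfModules.toSheafCompSheafToPresheafIso X.ringCatSheaf)
  haveI : (SheafOfModules.toSheaf X.ringCatSheaf).ReflectsEpimorphisms :=
    Functor.reflectsEpimorphisms_of_faithful _
  apply (SheafOfModules.toSheaf X.ringCatSheaf).epi_of_epi_map
  haveI : Sheaf.IsLocallySurjective
      ((SheafOfModules.toSheaf X.ringCatSheaf).map ((skyS X x).map f)) :=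
    Presheaf.isLocallySurjective_of_surjective _ _
      (fun U => skyMap_app_surjective X x f.hom hf U)
  infer_instance

instance : (skyS X x).PreservesHomology := by
  simp only [(skyS X x).exact_tfae.out 2 0]
  intro S h
  have key := (Functor.preservesFiniteLimits_tfae (skyS X x)).out 3 0
  have hpres : PreservesFiniteLimits (skyS X x) := inferInstance
  have h1 := key.mp hpres S h
  haveI := h.epi_g
  refine ShortComplex.ShortExact.mk' h1.left h1.right ?_
  exact epi_skyS_map X x S.g

/-- the stalk at `x` of the skyscraper at `x` -/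
noncomputable def stalkSkyIso : skyS X x ⋙ stalkSh X x ≅ 𝟭 _ :=
  NatIso.ofComponents (fun N => (evEquiv X.presheaf x N).toModuleIso) (fun {N N'} g => by
    ext a
    exact ev_stalkMap X.presheaf x g.hom a)

end Groth.Agent.Lib.Helper5.StalkAdj
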