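import Mathlib
import Groth.Prelude.Def_DCoh4
import Groth.Prelude.Def_DerSch
import Groth.Prelude.Def_KFlatSite
import Groth.Agent.Lib.Helper5.StalkTen.StalkTenS
import Groth.Agent.Lib.Helper5.StalkTen.TotFun
import Groth.Agent.Lib.Helper5.Stalk.Exact

/-!
# The stalk of the total tensor complex
-/
set_option autoImplicit false
set_option linter.unusedSectionVars false
set_option linter.unusedVariables false
universe u
open CategoryTheory CategoryTheory.Limits MonoidalCategory Opposite TensorProduct TopologicalSpace
  AlgebraicGeometry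
open Groth.Agent.Lib.Helper5.Misc.StalkTensor
  Groth.Agent.Lib.Helper5.Sky Groth.Agent.Lib.Helper5.StalkAdj Groth.Agent.Lib.Helper5.StalkTenS

namespace Groth.Agent.Lib.Helper5.StalkTot

variable (X : Scheme.{u}) (x : X)

/-- the prelude's stalk functor agrees with `stalkSh` -/
noncomputable def stalkFunctorIso : DerSch.stalkFunctor X x ≅ stalkSh X x :=
  NatIso.ofComponents (fun M => Iso.refl _) (fun {M N} φ => by
    ext m
    obtain ⟨U, hU, s, rfl⟩ := M.presheaf.exists_germ_eq (x := x) m
    change (DerSch.stalkFunctor X x).map φ (M.presheaf.germ U x hU s) =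
      stalkMap x φ.val (gm M.val x U hU s)
    rw [DerSch.stalkFunctor_map_germ, stalkMap_gm]
    rfl)

/-- the complex of stalks -/
noncomputable abbrev stalkCx (F : CochainComplex X.Modules ℤ) :
    CochainComplex (ModuleCat.{u} (X.presheaf.stalk x)) ℤ :=
  ((stalkSh X x).mapHomologicalComplex (ComplexShape.up ℤ)).obj F

/-- **the stalk of the total tensor complex** -/
noncomputable def stalkTotIso (F K : CochainComplex X.Modules ℤ) :
    stalkCx X x ((DCoh.tensorCx.obj F).obj K) ≅ stalkCx X x F ⊗ stalkCx X x K :=
  Groth.Agent.Lib.Helper5.TotFun.totIso DCoh.tensorBi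
    (curriedTensor (ModuleCat.{u} (X.presheaf.stalk x)))
    (stalkSh X x) (stalkSh X x) (stalkSh X x)
    (fun P N => stalkTensorIsoS X x P N)
    (fun f N => stalkTensorIsoS_naturality_left x f N)
    (fun P _ _ g => stalkTensorIsoS_naturality_right x P g) F K

end Groth.Agent.Lib.Helper5.StalkTot
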