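import Mathlib
import Groth.Prelude.Def_DCoh4
import Groth.Prelude.Def_DerSch
import Groth.Prelude.Def_KFlatSite
import Groth.Agent.Lib.Helper5.StalkTen.StalkTot
import Groth.Agent.Lib.Helper5.StalkTen.SkyExact

/-!
# K-flatness is a stalkwise property
-/
set_option autoImplicit false
set_option linter.unusedSectionVars false
set_option linter.unusedVariables false
universe u
open CategoryTheory CategoryTheory.Limits MonoidalCategory Opposite TopologicalSpace
  AlgebraicGeometry HomologicalComplex
open Groth.Agent.Lib.Helper5.StalkAdj Groth.Agent.Lib.Helper5.StalkTot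

namespace Groth.Agent.Lib.Helper5.KFlatStalk

/-- K-flatness of complexes of modules is invariant under isomorphism -/
lemma dring_isKFlat_of_iso {A : Type u} [CommRing A] {K K' : DRing.Cx A} (e : K ≅ K')
    (h : DRing.IsKFlat A K) : DRing.IsKFlat A K' := by
  intro M hM i
  exact (h M hM i).of_iso
    ((HomologicalComplex.homologyFunctor _ _ i).mapIso (whiskerLeftIso M e.symm))

variable {X : Scheme.{u}}

lemma acyclic_stalkCx (L : CochainComplex X.Modules ℤ) (hL : ∀ i : ℤ, IsZero (L.homology i))
    (x : X) (j : ℤ) : IsZero ((stalkCx X x L).homology j) := by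
  rw [← exactAt_iff_isZero_homology]
  exact ((exactAt_iff_isZero_homology L j).mpr (hL j)).map (stalkSh X x)

/-- a complex all of whose stalk complexes are K-flat is K-flat -/
theorem isKFlat_of_stalks (F : CochainComplex X.Modules ℤ)
    (h : ∀ x : X, DRing.IsKFlat (X.presheaf.stalk x) (stalkCx X x F)) : DCoh.IsKFlat F := by
  intro L hL i
  rw [← exactAt_iff_isZero_homology]
  apply exactAt_of_stalks
  intro x
  have h1 := h x (stalkCx X x L) (acyclic_stalkCx L hL x) i
  rw [exactAt_iff_isZero_homology]
  exact h1.of_iso ((HomologicalComplex.homologyFunctor _ _ i).mapIso (stalkTotIso X x L F))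

/-- the stalk complex of a skyscraper complex -/
noncomputable def stalkSkyCxIso (x : X) (M : DRing.Cx (X.presheaf.stalk x)) :
    stalkCx X x (((skyS X x).mapHomologicalComplex (ComplexShape.up ℤ)).obj M) ≅ M :=
  HomologicalComplex.Hom.isoOfComponents (fun i => (stalkSkyIso X x).app (M.X i))
    (fun i j _ => ((stalkSkyIso X x).hom.naturality (M.d i j)).symm)

/-- the stalk complexes of a K-flat complex are K-flat -/
theorem isKFlat_stalkCx (F : CochainComplex X.Modules ℤ) (hF : DCoh.IsKFlat F) (x : X) :
    DRing.IsKFlat (X.presheaf.stalk x) (stalkCx X x F) := by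
  intro M hM i
  have hS : ∀ j : ℤ, IsZero
      ((((skyS X x).mapHomologicalComplex (ComplexShape.up ℤ)).obj M).homology j) := fun j => by
    rw [← exactAt_iff_isZero_homology]
    exact ((exactAt_iff_isZero_homology M j).mpr (hM j)).map (skyS X x)
  have h2 := acyclic_stalkCx _ (hF _ hS) x i
  exact h2.of_iso ((HomologicalComplex.homologyFunctor _ _ i).mapIso
    ((whiskerRightIso (stalkSkyCxIso x M) _).symm ≪≫ (stalkTotIso X x _ F).symm))

/-- **K-flatness is a stalkwise property** -/
theorem isKFlat_iff_stalks (F : CochainComplex X.Modules ℤ) :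
    DCoh.IsKFlat F ↔ ∀ x : X, DRing.IsKFlat (X.presheaf.stalk x)
      (((DerSch.stalkFunctor X x).mapHomologicalComplex (ComplexShape.up ℤ)).obj F) := by
  constructor
  · intro hF x
    exact dring_isKFlat_of_iso
      ((NatIso.mapHomologicalComplex (stalkFunctorIso X x) (ComplexShape.up ℤ)).app F).symm
      (isKFlat_stalkCx F hF x)
  · intro h
    apply isKFlat_of_stalks
    intro x
    exact dring_isKFlat_of_iso
      ((NatIso.mapHomologicalComplex (stalkFunctorIso X x) (ComplexShape.up ℤ)).app F) (h x)

end Groth.Agent.Lib.Helper5.KFlatStalk
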