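import Mathlib
import Groth.Agent.Lib.Helper5.StalkTen.KFlatStalk
import Groth.Agent.Lib.Helper5.StalkTen.BCKFlat
import Groth.Agent.Lib.Helper5.Stalk.Pull

/-!
# The pullback of a K-flat complex is K-flat
-/
set_option autoImplicit false
set_option linter.unusedSectionVars false
set_option linter.unusedVariables false
universe u
open CategoryTheory CategoryTheory.Limits MonoidalCategory Opposite TopologicalSpace
  AlgebraicGeometry HomologicalComplex
open Groth.Agent.Lib.Helper5.StalkAdj Groth.Agent.Lib.Helper5.StalkTot
  Groth.Agent.Lib.Helper5.KFlatStalk Groth.Agent.Lib.Helper5.BCKFlat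

namespace Groth.Agent.Lib.Helper5.KFlatPull

variable {X Y : Scheme.{u}} (f : X ⟶ Y)

/-- the stalk complex of a pullback -/
noncomputable def stalkCxPullbackIso (K : CochainComplex Y.Modules ℤ) (x : X) :
    stalkCx X x (((Scheme.Modules.pullback f).mapHomologicalComplex (ComplexShape.up ℤ)).obj K) ≅
      ((ModuleCat.extendScalars.{u, u, u} (f.stalkMap x).hom).mapHomologicalComplex
        (ComplexShape.up ℤ)).obj (stalkCx Y (f x) K) :=
  HomologicalComplex.Hom.isoOfComponents (fun i => (stalkPullbackIso f x).app (K.X i))
    (fun i j _ => ((stalkPullbackIso f x).hom.naturality (K.d i j)).symm)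

/-- **the pullback of a K-flat complex is K-flat** -/
theorem isKFlat_pullback (K : CochainComplex Y.Modules ℤ) (hK : DCoh.IsKFlat K) :
    DCoh.IsKFlat
      (((Scheme.Modules.pullback f).mapHomologicalComplex (ComplexShape.up ℤ)).obj K) := by
  apply isKFlat_of_stalks
  intro x
  exact dring_isKFlat_of_iso (stalkCxPullbackIso f K x).symm
    (isKFlat_extendScalars (f.stalkMap x).hom _ (isKFlat_stalkCx K hK (f x)))

end Groth.Agent.Lib.Helper5.KFlatPull
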