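import Mathlib
import Groth.Agent.Lib.Helper5.StalkTen.KFlatStalk
import Groth.Agent.Lib.Helper5.StalkTen.BCKFlat

/-!
# The stalks of `M^~` and K-flatness of the tilde of a K-flat complex
-/
set_option autoImplicit false
set_option linter.unusedSectionVars false
set_option linter.unusedVariables false
universe u
open CategoryTheory CategoryTheory.Limits MonoidalCategory Opposite TopologicalSpace
  AlgebraicGeometry HomologicalComplex
open Groth.Agent.Lib.Helper5.Misc.StalkTensor Groth.Agent.Lib.Helper5.Sky
  Groth.Agent.Lib.Helper5.StalkAdj Groth.Agent.Lib.Helper5.StalkTot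
  Groth.Agent.Lib.Helper5.KFlatStalk Groth.Agent.Lib.Helper5.BCKFlat

namespace Groth.Agent.Lib.Helper5.TildeStalk

variable (R : CommRingCat.{u}) (x : Spec (CommRingCat.of R))

/-- the endomorphism of `⊤` used in the definition of the global sections functor -/
noncomputable def eTop : (op (⊤ : (Spec (CommRingCat.of R)).Opens)) ⟶ op ⊤ :=
  (Limits.initialOpOfTerminal Limits.isTerminalTop).to (op ⊤)

/-- the ring map through which `R` acts on the stalks at `x` -/
noncomputable def phi : R →+* (Spec (CommRingCat.of R)).presheaf.stalk x :=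
  ((Scheme.ΓSpecIso (CommRingCat.of R)).inv ≫ (Spec (CommRingCat.of R)).presheaf.map (eTop R) ≫
    (Spec (CommRingCat.of R)).presheaf.germ ⊤ x trivial).hom

/-- global sections of a skyscraper module -/
noncomputable def skyGammaEquiv (N : ModuleCat.{u} ((Spec (CommRingCat.of R)).presheaf.stalk x)) :
    (ModuleCat.restrictScalars (phi R x)).obj N ≃ₗ[R]
      (moduleSpecΓFunctor (R := R)).obj ((skyS (Spec (CommRingCat.of R)) x).obj N) where
  toFun n := (fun _ => n : SkyT x N ⊤)
  invFun s := (s : SkyT x N ⊤) ⟨trivial⟩
  map_add' _ _ := rfl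
  map_smul' _ _ := rfl
  left_inv _ := rfl
  right_inv _ := rfl

/-- the right adjoint of `M ↦ (M^~)_x` -/
noncomputable def skyGammaIso :
    skyS (Spec (CommRingCat.of R)) x ⋙ moduleSpecΓFunctor (R := R) ≅
      ModuleCat.restrictScalars (phi R x) :=
  (NatIso.ofComponents (fun N => (skyGammaEquiv R x N).toModuleIso) (fun f => rfl)).symm

/-- `M ↦ (M^~)_x` is left adjoint to `N ↦ Γ(Sky_x N)` -/
noncomputable def adjTS :
    tilde.functor R ⋙ stalkSh (Spec (CommRingCat.of R)) x ⊣
      skyS (Spec (CommRingCat.of R)) x ⋙ moduleSpecΓFunctor (R := R) :=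
  (tilde.adjunction (R := R)).comp (adjS (Spec (CommRingCat.of R)) x)

/-- **the stalk of `M^~` at `x` is the base change of `M`** -/
noncomputable def tildeStalkIso :
    tilde.functor R ⋙ stalkSh (Spec (CommRingCat.of R)) x ≅
      ModuleCat.extendScalars.{u, u, u} (phi R x) :=
  ((adjTS R x).ofNatIsoRight (skyGammaIso R x)).leftAdjointUniq
    (ModuleCat.extendRestrictScalarsAdj (phi R x))

/-- the stalk complex of the tilde of a complex -/
noncomputable def stalkCxTildeIso (K : DRing.Cx R) :
    stalkCx (Spec (CommRingCat.of R)) x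
        (((tilde.functor R).mapHomologicalComplex (ComplexShape.up ℤ)).obj K) ≅
      ((ModuleCat.extendScalars.{u, u, u} (phi R x)).mapHomologicalComplex
        (ComplexShape.up ℤ)).obj K :=
  HomologicalComplex.Hom.isoOfComponents (fun i => (tildeStalkIso R x).app (K.X i))
    (fun i j _ => ((tildeStalkIso R x).hom.naturality (K.d i j)).symm)

/-- **the tilde of a K-flat complex of modules is K-flat** -/
theorem isKFlat_tilde (K : DRing.Cx R) (hK : DRing.IsKFlat R K) :
    DCoh.IsKFlat (X := Spec (CommRingCat.of R))
      (((tilde.functor R).mapHomologicalComplex (ComplexShape.up ℤ)).obj K) := by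
  apply isKFlat_of_stalks
  intro x
  exact dring_isKFlat_of_iso (stalkCxTildeIso R x K).symm
    (isKFlat_extendScalars (phi R x) K hK)

end Groth.Agent.Lib.Helper5.TildeStalk
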